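import Groth.Agent.AlgSpD.IntSurj.Split
import Groth.Agent.S10295
import Groth.Agent.AlgSpD.IntegralMor
import Groth.Agent.AlgSpB.OpenGlue
import Groth.Agent.AlgSpB.Diag
import Groth.Agent.AlgSpB.FPCover.Geom
import Groth.Agent.AlgSpCov.EtaleMono
import Groth.Agent.AlgSpCov.FpqcDiag
import Groth.Agent.AlgSp.QCMor
import Groth.Agent.SchPoints.Basic

/-!
# Schemes integral and surjective over quasi-compact quasi-separated spaces
-/

universe u

open CategoryTheory CategoryTheory.Limits AlgebraicGeometry Opposite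

set_option autoImplicit false
set_option backward.isDefEq.respectTransparency false
set_option backward.isDefEq.respectTransparency.types false

namespace Groth.Agent.AlgSpD.IntSurj

open _root_.AlgSp

variable {S : Scheme.{u}}

/-- Charts with affine source of quasi-separated spaces are quasi-compact and separated. -/
theorem repWith_qc_sep [QuasiSeparatedSpace S] (X : Space S) (hqs : IsQuasiSeparatedSp X.obj) {T : Over S}
    [IsAffine T.left] (a : (yon S).obj T ⟶ X.obj) :
    RepWith @QuasiCompact a ∧ RepWith @IsSeparated a := by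
  have key : ∀ {U W : Over S} {g : (yon S).obj U ⟶ X.obj} {fst : W ⟶ T} {snd : W ⟶ U},
      IsPullback ((yon S).map fst) ((yon S).map snd) a g → QuasiCompact snd.left ∧ IsSeparated snd.left := by
    intro U W g fst snd sq
    have h1 : QuasiCompact (AlgSpB.pairHom fst snd) := AlgSpB.prop_pairHom hqs sq
    have h2 : Mono (AlgSpB.pairHom fst snd) := ⟨fun {A} x y h => by
      have e1 : x ≫ fst.left = y ≫ fst.left := by
        have := h =≫ pullback.fst T.hom U.hom
        simpa [AlgSpB.pairHom] using this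
      have e2 : x ≫ snd.left = y ≫ snd.left := by
        have := h =≫ pullback.snd T.hom U.hom
        simpa [AlgSpB.pairHom] using this
      let A' : Over S := Over.mk (x ≫ W.hom)
      let x' : A' ⟶ W := Over.homMk x rfl
      let y' : A' ⟶ W := Over.homMk y (by
        change y ≫ W.hom = x ≫ W.hom
        rw [← Over.w fst, ← Category.assoc, ← e1, Category.assoc])
      have : x' = y' := (yon S).map_injective (sq.hom_ext
        (by rw [← Functor.map_comp, ← Functor.map_comp]; congr 1; exact Over.OverMorphism.ext e1)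
        (by rw [← Functor.map_comp, ← Functor.map_comp]; congr 1; exact Over.OverMorphism.ext e2))
      exact congrArg CommaMorphism.left this⟩
    have hT : IsSeparated T.hom := inferInstance
    have hTq : QuasiCompact T.hom := inferInstance
    have e : AlgSpB.pairHom fst snd ≫ pullback.snd T.hom U.hom = snd.left := pullback.lift_snd _ _ _
    rw [← e]
    exact ⟨inferInstance, inferInstance⟩
  refine ⟨⟨X.property.representable_from_yon a, fun U W g fst snd sq => ?_⟩,
    X.property.representable_from_yon a, fun U W g fst snd sq => ?_⟩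
  · obtain ⟨fst', rfl⟩ := (yon S).map_surjective fst
    exact (key sq).1
  · obtain ⟨fst', rfl⟩ := (yon S).map_surjective fst
    exact (key sq).2

/-- A scheme over an affine scheme hitting every point, whose ring is a product of algebraically closed fields. -/
theorem exists_product_cover (T : Scheme.{u}) [IsAffine T] :
    ∃ (ι : Type u) (K : ι → Type u) (_ : ∀ i, Field (K i)) (_ : ∀ i, IsAlgClosed (K i))
      (j : Spec (CommRingCat.of (∀ i, K i)) ⟶ T), Surjective j := by
  let K : T → Type u := fun t => AlgebraicClosure (T.residueField t)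
  let m : ∀ t, Spec (CommRingCat.of (K t)) ⟶ T := fun t =>
    Spec.map (CommRingCat.ofHom (algebraMap (T.residueField t) (K t))) ≫ T.fromSpecResidueField t
  let θ : Γ(T, ⊤) ⟶ CommRingCat.of (∀ t, K t) := CommRingCat.ofHom
    (RingHom.pi fun t => ((m t).appTop ≫ (Scheme.ΓSpecIso (CommRingCat.of (K t))).hom).hom)
  refine ⟨T, K, inferInstance, inferInstance, Spec.map θ ≫ T.isoSpec.inv, ⟨fun t => ?_⟩⟩
  let e : CommRingCat.of (∀ t, K t) ⟶ CommRingCat.of (K t) := CommRingCat.ofHom (Pi.evalRingHom K t)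
  have he : θ ≫ e = (m t).appTop ≫ (Scheme.ΓSpecIso (CommRingCat.of (K t))).hom :=
    CommRingCat.hom_ext (RingHom.ext fun _ => rfl)
  have h : Spec.map e ≫ Spec.map θ ≫ T.isoSpec.inv = m t := by
    rw [← Spec.map_comp_assoc, he, Spec.map_comp, Category.assoc, Scheme.isoSpec_inv_naturality,
      Scheme.isoSpec_Spec_inv, ← Spec.map_comp_assoc, Iso.inv_hom_id, Spec.map_id, Category.id_comp]
  refine ⟨Spec.map e (IsLocalRing.closedPoint (K t)), ?_⟩
  rw [← Scheme.Hom.comp_apply, h]
  exact T.fromSpecResidueField_apply t _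

/-- The main construction, for an affine chart. -/
theorem exists_of_affine [QuasiSeparatedSpace S] (X : Space S) (hqs : IsQuasiSeparatedSp X.obj) {T : Over S}
    [IsAffine T.left] (a : (yon S).obj T ⟶ X.obj) (ha : RepWith @Etale a) (has : RepWith @Surjective a) :
    ∃ (Y : Over S) (g : (yon S).obj Y ⟶ X.obj), RepWith @IsIntegralHom g ∧ RepWith @Surjective g ∧
      ∀ y : ↥Y.left, ∃ (W : Y.left.Opens) (c : Over.mk (W.ι ≫ Y.hom) ⟶ T), y ∈ W ∧
        (yon S).map c ≫ a = (yon S).map (Over.homMk W.ι rfl : Over.mk (W.ι ≫ Y.hom) ⟶ Y) ≫ g := by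
  obtain ⟨haq, hasep⟩ := repWith_qc_sep X hqs a
  obtain ⟨ι, K, _, _, j₀, hj₀⟩ := exists_product_cover T.left
  let F : Over S := Over.mk (j₀ ≫ T.hom)
  have : IsAffine F.left := inferInstanceAs (IsAffine (Spec _))
  let j : F ⟶ T := Over.homMk j₀ rfl
  let f : (yon S).obj F ⟶ X.obj := (yon S).map j ≫ a
  have hfc : IsQuasiCompactMor f := Groth.Agent.AlgSp.isQuasiCompactMor_of_quasiCompactSp
    (IsAlgSpace.yon_obj F) X.property f (Groth.Agent.AlgSp.isQuasiCompactSp_yon F) hqs
  have hfs : IsQuasiSeparatedMor f := Groth.Agent.AlgSpB.FPCover.isQuasiSeparatedMor_of_affine f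
  obtain ⟨X', ν, f', hn⟩ := Groth.Agent.S10295.result
    (Y := ⟨_, IsAlgSpace.yon_obj F⟩) (X := X) (ObjectProperty.homMk f) hfc hfs
  have hν := (Groth.Agent.AlgSpD.isIntegralMor_iff _).1 hn.2.1
  have hw : f'.hom ≫ ν.hom = f := hn.1
  -- the chart of the normalization
  obtain ⟨Z, zT, c, sZ⟩ := hν.1 a
  have : IsIntegralHom zT.left := hν.2 _ _ _ sZ
  have : IsAffine Z.left := isAffine_of_isAffineHom zT.left
  have hc : RepWith @Etale c := MorphismProperty.of_isPullback sZ.flip ha
  have hcs : RepWith @Surjective c := MorphismProperty.of_isPullback sZ.flip has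
  have hcq : RepWith @QuasiCompact c := MorphismProperty.of_isPullback sZ.flip haq
  have hcsep : RepWith @IsSeparated c := MorphismProperty.of_isPullback sZ.flip hasep
  obtain ⟨V, qV, ζ, sV⟩ := Groth.Agent.AlgSpB.exists_pullback_yon (X.property.representable_from_yon f) a
  have hqV : Etale qV.left := ha.2 _ _ _ sV.flip
  have hqVq : QuasiCompact qV.left := haq.2 _ _ _ sV.flip
  have hqVs : IsSeparated qV.left := hasep.2 _ _ _ sV.flip
  obtain ⟨k, hk⟩ := (yon S).map_surjective (sZ.lift ((yon S).map qV ≫ f'.hom) ((yon S).map ζ)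
    (by rw [Category.assoc, hw, sV.w]))
  have k1 : (yon S).map k ≫ c = (yon S).map qV ≫ f'.hom := by rw [hk, sZ.lift_fst]
  have k2 : k ≫ zT = ζ := (yon S).map_injective (by rw [Functor.map_comp, hk, sZ.lift_snd])
  have hn₁ := Groth.Agent.AlgSp.relNorm_smooth_baseChange (IsAlgSpace.yon_obj F) X.property X'.property
    (IsAlgSpace.yon_obj T) (IsAlgSpace.yon_obj Z) hfc hfs hn (Groth.Agent.AlgSp.locP_smooth_of_etale ha) sV sZ
    (f₁' := (yon S).map k) (by rw [← Functor.map_comp, k2]) k1
  have : CompactSpace F.left := inferInstance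
  have : CompactSpace V.left := QuasiCompact.compactSpace_of_compactSpace qV.left
  have : QuasiCompact k.left := inferInstance
  -- clopen sets of the source are separated downstairs
  have h1 : ∀ v v' : V.left, v ≠ v' → ∃ D : Set Z.left, IsClopen D ∧ k.left v ∈ D ∧ k.left v' ∉ D := by
    intro v v' hne
    obtain ⟨D, hDc, hvD, hvD'⟩ := exists_clopen K qV.left hne
    let D' : V.left.Opens := ⟨(D : Set V.left)ᶜ, hDc.isOpen_compl⟩
    have hDD : IsCompl D.ι.opensRange D'.ι.opensRange := by
      rw [Scheme.Opens.opensRange_ι, Scheme.Opens.opensRange_ι, isCompl_iff, disjoint_iff, codisjoint_iff,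
        ← TopologicalSpace.Opens.coe_inj, ← TopologicalSpace.Opens.coe_inj]
      exact ⟨Set.inter_compl_self _, Set.union_compl_self _⟩
    obtain ⟨hcl⟩ := nonempty_isColimit_binaryCofanMk_of_isCompl D.ι D'.ι hDD
    let T₂ : Over S := Over.mk (coprod.desc T.hom T.hom)
    let dT : T₂ ⟶ T := Over.homMk (coprod.desc (𝟙 T.left) (𝟙 T.left)) (by
      apply coprod.hom_ext <;> simp [T₂])
    have hdT : IsIntegralHom dT.left := inferInstanceAs (IsIntegralHom (coprod.desc (𝟙 T.left) (𝟙 T.left)))
    obtain ⟨l, hl1, hl2⟩ : ∃ l : V.left ⟶ T.left ⨿ T.left,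
        D.ι ≫ l = (D.ι ≫ ζ.left) ≫ coprod.inl ∧ D'.ι ≫ l = (D'.ι ≫ ζ.left) ≫ coprod.inr :=
      ⟨hcl.desc (BinaryCofan.mk _ _), hcl.fac (BinaryCofan.mk _ _) ⟨.left⟩, hcl.fac (BinaryCofan.mk _ _) ⟨.right⟩⟩
    have hl : l ≫ dT.left = ζ.left := BinaryCofan.IsColimit.hom_ext hcl
      (by simp [reassoc_of% hl1, dT]) (by simp [reassoc_of% hl2, dT])
    let g : V ⟶ T₂ := Over.homMk l (by
      have : T₂.hom = dT.left ≫ T.hom := (Over.w dT).symm
      rw [this, reassoc_of% hl, Over.w])
    obtain ⟨h, ⟨hh, -⟩, -⟩ := hn₁.2.2 (IsAlgSpace.yon_obj T₂) ((yon S).map dT) ((yon S).map g)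
      ((Groth.Agent.AlgSpD.isIntegralMor_iff _).2 ((repWith_yon_map_iff _ dT).2 hdT))
      (by rw [← Functor.map_comp]; congr 1; exact Over.OverMorphism.ext hl)
    obtain ⟨h, rfl⟩ := (yon S).map_surjective h
    rw [← Functor.map_comp] at hh
    have hh' : k.left ≫ h.left = l := congrArg CommaMorphism.left ((yon S).map_injective hh)
    let E := (coprod.inl : T.left ⟶ T.left ⨿ T.left).opensRange
    have hE : IsClopen (E : Set (T.left ⨿ T.left : Scheme.{u})) := by
      refine ⟨?_, E.2⟩
      have : (E : Set (T.left ⨿ T.left : Scheme.{u})) = (Set.range (coprod.inr : T.left ⟶ T.left ⨿ T.left))ᶜ :=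
        (isCompl_range_inl_inr T.left T.left).eq_compl
      rw [this]
      exact (coprod.inr : T.left ⟶ T.left ⨿ T.left).isOpenEmbedding.isOpen_range.isClosed_compl
    refine ⟨h.left ⁻¹' (E : Set (T.left ⨿ T.left : Scheme.{u})), hE.preimage h.left.continuous, ?_, ?_⟩
    · change h.left (k.left v) ∈ E
      erw [← Scheme.Hom.comp_apply, hh']
      change (D.ι ≫ l) ⟨v, hvD⟩ ∈ E
      rw [hl1]
      exact ⟨_, rfl⟩
    · change ¬ h.left (k.left v') ∈ E
      erw [← Scheme.Hom.comp_apply, hh']
      change ¬ (D'.ι ≫ l) ⟨v', hvD'⟩ ∈ E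
      rw [hl2]
      rintro ⟨x, hx⟩
      exact inl_ne_inr _ _ x _ hx
  -- minimal points come from the source
  have h2 : ∀ z : Z.left, (∀ z', z' ⤳ z → z' = z) → z ∈ Set.range k.left := by
    intro z hz
    let I : Over S := Over.mk (k.left.imageι ≫ Z.hom)
    let iI : I ⟶ Z := Over.homMk k.left.imageι rfl
    let kI : V ⟶ I := Over.homMk k.left.toImage (by
      change k.left.toImage ≫ k.left.imageι ≫ Z.hom = V.hom
      rw [Scheme.Hom.toImage_imageι_assoc, Over.w])
    have hkI : kI ≫ iI = k := Over.OverMorphism.ext k.left.toImage_imageι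
    have hint : IsIntegralHom (iI ≫ zT).left := by
      change IsIntegralHom (k.left.imageι ≫ zT.left)
      infer_instance
    obtain ⟨h, ⟨hh1, hh2⟩, -⟩ := hn₁.2.2 (IsAlgSpace.yon_obj I) ((yon S).map (iI ≫ zT)) ((yon S).map kI)
      ((Groth.Agent.AlgSpD.isIntegralMor_iff _).2 ((repWith_yon_map_iff _ _).2 hint))
      (by rw [← Functor.map_comp, ← Category.assoc, hkI, k2])
    obtain ⟨h, rfl⟩ := (yon S).map_surjective h
    obtain ⟨id', -, huniq⟩ := hn₁.2.2 (IsAlgSpace.yon_obj Z) ((yon S).map zT) ((yon S).map k)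
      hn₁.2.1 (by rw [← Functor.map_comp, k2])
    have hid : (yon S).map (h ≫ iI) = 𝟙 _ := by
      refine (huniq _ ⟨?_, ?_⟩).trans (huniq _ ⟨Category.comp_id _, Category.id_comp _⟩).symm
      · rw [Functor.map_comp, ← Category.assoc, hh1, ← Functor.map_comp, hkI]
      · rw [← Functor.map_comp, Category.assoc, Functor.map_comp, hh2]
    have hz' : z ∈ closure (Set.range k.left) := by
      have : h ≫ iI = 𝟙 Z := (yon S).map_injective (by rw [hid, CategoryTheory.Functor.map_id])
      have h0 : z ∈ Set.range k.left.imageι := ⟨h.left z, congr(($this).left z)⟩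
      rwa [Scheme.IdealSheafData.range_subschemeι, Scheme.Hom.support_ker] at h0
    obtain ⟨v, hv⟩ := SchPoints.exists_specializes_of_mem_closure_range k.left hz'
    exact ⟨v, hz _ hv⟩
  have hkinj : ∀ v v' : V.left, k.left v = k.left v' → v = v' := fun v v' e => by
    by_contra hne
    obtain ⟨D, -, hD1, hD2⟩ := h1 v v' hne
    exact hD2 (e ▸ hD1)
  -- the relation
  obtain ⟨R, s, t, sR⟩ := Groth.Agent.AlgSpB.exists_pullback_yon hc.1 c
  have hs : Etale s.left := hc.2 _ _ _ sR.flip
  have ht : Etale t.left := hc.2 _ _ _ sR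
  have : QuasiCompact s.left := hcq.2 _ _ _ sR.flip
  have : IsSeparated s.left := hcsep.2 _ _ _ sR.flip
  have : CompactSpace R.left := QuasiCompact.compactSpace_of_compactSpace s.left
  obtain ⟨δ, hδ⟩ := (yon S).map_surjective (sR.lift (𝟙 _) (𝟙 _) rfl)
  have δs : δ ≫ s = 𝟙 Z := (yon S).map_injective (by rw [Functor.map_comp, hδ, sR.lift_fst, CategoryTheory.Functor.map_id])
  have δt : δ ≫ t = 𝟙 Z := (yon S).map_injective (by rw [Functor.map_comp, hδ, sR.lift_snd, CategoryTheory.Functor.map_id])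
  have δs' : δ.left ≫ s.left = 𝟙 Z.left := congrArg CommaMorphism.left δs
  have hδo : IsOpenImmersion δ.left := Groth.Agent.EtaleSite.isOpenImmersion_of_section s.left δ.left δs'
  have hδc : IsClosed (Set.range δ.left) := by
    have : IsClosedImmersion (δ.left ≫ s.left) := by rw [δs']; infer_instance
    have : IsClosedImmersion δ.left := IsClosedImmersion.of_comp δ.left s.left
    exact δ.left.isClosedEmbedding.isClosed_range
  have h3 : ∀ (r : R.left) (v : V.left), s.left r = k.left v → t.left r = k.left v → r ∈ Set.range δ.left := by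
    intro r v hsr htr
    obtain ⟨W, p₁, p₂, sW⟩ : ∃ (W : Over S) (p₁ : W ⟶ R) (p₂ : W ⟶ V), IsPullback p₁ p₂ s k :=
      ⟨_, _, _, IsPullback.of_hasPullback s k⟩
    obtain ⟨w, hw1, hw2⟩ : ∃ w : W.left, p₁.left w = r ∧ p₂.left w = v := by
      obtain ⟨w₀, e1, e2⟩ := Scheme.Pullback.exists_preimage_pullback (f := s.left) (g := k.left) r v hsr
      let e : W.left ≅ pullback s.left k.left := (sW.map (Over.forget S)).isoPullback
      refine ⟨e.inv w₀, ?_, ?_⟩
      · exact ((Scheme.Hom.comp_apply _ _ _).symm.trans (congr($((sW.map (Over.forget S)).isoPullback_inv_fst) w₀))).trans e1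
      · exact ((Scheme.Hom.comp_apply _ _ _).symm.trans (congr($((sW.map (Over.forget S)).isoPullback_inv_snd) w₀))).trans e2
    obtain ⟨l, hl⟩ := (yon S).map_surjective (sV.lift ((yon S).map (p₂ ≫ qV)) ((yon S).map (p₁ ≫ t ≫ zT)) (by
      rw [Functor.map_comp, Category.assoc, sV.w, ← k2, ← Functor.map_comp_assoc, ← reassoc_of% sW.w]
      simp only [Functor.map_comp, Category.assoc]
      rw [← sZ.w, reassoc_of% sR.w]))
    have l1 : l ≫ qV = p₂ ≫ qV := (yon S).map_injective (by rw [Functor.map_comp, hl, sV.lift_fst])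
    have l2 : l ≫ ζ = p₁ ≫ t ≫ zT := (yon S).map_injective (by rw [Functor.map_comp, hl, sV.lift_snd])
    have hlk : l ≫ k = p₁ ≫ t := (yon S).map_injective (sZ.hom_ext
      (by
        rw [Functor.map_comp, Category.assoc, k1, ← Functor.map_comp_assoc, l1, Functor.map_comp_assoc, ← k1,
          ← Functor.map_comp_assoc, ← sW.w, Functor.map_comp, Category.assoc, sR.w, Functor.map_comp,
          Category.assoc])
      (by rw [← Functor.map_comp, ← Functor.map_comp, Category.assoc, k2, l2, Category.assoc]))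
    have hlw : l.left w = v := hkinj _ _ (by
      rw [← Scheme.Hom.comp_apply, ← Over.comp_left, hlk, Over.comp_left, Scheme.Hom.comp_apply, hw1, htr])
    let wb := W.left.fromSpecResidueField w
    have hab : wb ≫ l.left = wb ≫ p₂.left := by
      refine fieldPt_ext K qV.left (W.left.residueField w) _ _ ?_ ?_
      · exact (congrArg l.left (W.left.fromSpecResidueField_apply w _)).trans (hlw.trans (hw2.symm.trans
          (congrArg p₂.left (W.left.fromSpecResidueField_apply w _).symm)))
      · simp only [Category.assoc, ← Over.comp_left, l1]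
    let A : Over S := Over.mk (wb ≫ W.hom)
    let wA : A ⟶ W := Over.homMk wb rfl
    have e2 : wA ≫ l = wA ≫ p₂ := Over.OverMorphism.ext hab
    have e3 : (wA ≫ p₁) ≫ s = (wA ≫ p₁) ≫ t := by
      rw [Category.assoc, Category.assoc, sW.w, ← hlk, reassoc_of% e2]
    have e4 : ((wA ≫ p₁) ≫ s) ≫ δ = wA ≫ p₁ := (yon S).map_injective (sR.hom_ext
      (by rw [← Functor.map_comp, ← Functor.map_comp, Category.assoc _ δ, δs, Category.comp_id])
      (by rw [← Functor.map_comp, ← Functor.map_comp, Category.assoc _ δ, δt, Category.comp_id, e3]))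
    refine ⟨((wA ≫ p₁) ≫ s).left (IsLocalRing.closedPoint (W.left.residueField w)), ?_⟩
    rw [← Scheme.Hom.comp_apply, ← Over.comp_left, e4]
    change (wb ≫ p₁.left) _ = r
    rw [Scheme.Hom.comp_apply, Scheme.fromSpecResidueField_apply, hw1]
  -- open subschemes of the normalization
  have key : ∀ z : Z.left, ∃ O : Z.left.Opens, z ∈ O ∧ RepWith @IsOpenImmersion
      ((yon S).map (Over.homMk O.ι rfl : Over.mk (O.ι ≫ Z.hom) ⟶ Z) ≫ c) := by
    intro z
    obtain ⟨O, hzO, hO⟩ := exists_nhd_range s.left t.left δ.left δs' hδc k.left h1 h2 h3 z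
    let jO : Over.mk (O.ι ≫ Z.hom) ⟶ Z := Over.homMk O.ι rfl
    have he : RepWith @Etale ((yon S).map jO ≫ c) :=
      MorphismProperty.comp_mem _ _ _ ((repWith_yon_map_iff _ jO).2 (inferInstanceAs (Etale O.ι))) hc
    have : Mono ((yon S).map jO ≫ c) := by
      refine Groth.Agent.AlgSp.mono_of_yon _ fun A x y hxy => ?_
      obtain ⟨x, rfl⟩ := (yon S).map_surjective x
      obtain ⟨y, rfl⟩ := (yon S).map_surjective y
      rw [← Functor.map_comp_assoc, ← Functor.map_comp_assoc] at hxy
      obtain ⟨r, hr⟩ := (yon S).map_surjective (sR.lift _ _ hxy)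
      have r1 : r ≫ s = x ≫ jO := (yon S).map_injective (by rw [Functor.map_comp, hr, sR.lift_fst])
      have r2 : r ≫ t = y ≫ jO := (yon S).map_injective (by rw [Functor.map_comp, hr, sR.lift_snd])
      have hrr : Set.range r.left ⊆ Set.range δ.left := by
        rintro _ ⟨p, rfl⟩
        refine hO _ ?_ ?_
        · rw [← Scheme.Hom.comp_apply, ← Over.comp_left, r1]
          exact (x.left p).2
        · rw [← Scheme.Hom.comp_apply, ← Over.comp_left, r2]
          exact (y.left p).2
      let m := IsOpenImmersion.lift δ.left r.left hrr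
      have hm : m ≫ δ.left = r.left := IsOpenImmersion.lift_fac _ _ _
      have δt' : δ.left ≫ t.left = 𝟙 Z.left := congrArg CommaMorphism.left δt
      have : x.left ≫ O.ι = y.left ≫ O.ι := by
        have h1 : x.left ≫ O.ι = r.left ≫ s.left := (congrArg CommaMorphism.left r1).symm
        have h2 : y.left ≫ O.ι = r.left ≫ t.left := (congrArg CommaMorphism.left r2).symm
        rw [h1, h2, ← hm, Category.assoc, Category.assoc, δs', δt']
      congr 1
      exact Over.OverMorphism.ext ((cancel_mono O.ι).1 this)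
    exact ⟨O, hzO, Groth.Agent.AlgSpCov.repWith_isOpenImmersion_of_mono_isEtaleMor (IsAlgSpace.yon_obj _)
      X'.property _ (Groth.Agent.AlgSpCov.isEtaleMor_of_repWith he)⟩
  choose O hzO hjO using key
  obtain ⟨Y, ⟨e⟩⟩ := Groth.Agent.AlgSpB.exists_iso_yon_of_openCover X'.property (fun z => Over.mk ((O z).ι ≫ Z.hom))
    (fun z => (yon S).map (Over.homMk (O z).ι rfl : Over.mk ((O z).ι ≫ Z.hom) ⟶ Z) ≫ c) hjO fun x => by
    obtain ⟨z, rfl⟩ := Groth.Agent.AlgSpB.surjective_ofPt hcs x
    refine ⟨z, Points.ofScheme _ (⟨z, hzO z⟩ : (O z).toScheme), ?_⟩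
    rw [← Points.ofPt_eq_map_ofScheme, AlgSpB.ofPt_map_comp]
    rfl
  have hg : RepWith @IsIntegralHom (e.hom ≫ ν.hom) :=
    (MorphismProperty.cancel_left_of_respectsIso _ _ _).2 hν
  refine ⟨Y, e.hom ≫ ν.hom, hg, Groth.Agent.AlgSpB.repWith_surjective_of_surjective_ofPt hg.1 fun x => ?_, ?_⟩
  · obtain ⟨t', rfl⟩ := Groth.Agent.AlgSpB.surjective_ofPt has x
    obtain ⟨z, hz⟩ := hj₀.surj t'
    refine ⟨Points.toScheme Y (Points.map e.inv (Points.ofPt f'.hom z)), ?_⟩
    rw [Points.ofPt_eq_map_ofScheme, Points.ofScheme_toScheme, Points.map_comp, ← Points.map_comp e.inv e.hom,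
      Iso.inv_hom_id, Points.map_id, Points.map_ofPt]
    rw [hw, AlgSpB.ofPt_map_comp]
    exact congrArg (Points.ofPt a) hz
  · intro y
    obtain ⟨z, hz⟩ := Groth.Agent.AlgSpB.surjective_ofPt hcs (Points.ofPt e.hom y)
    let jO : Over.mk ((O z).ι ≫ Z.hom) ⟶ Z := Over.homMk (O z).ι rfl
    obtain ⟨d, hd⟩ := (yon S).map_surjective (((yon S).map jO ≫ c) ≫ e.inv)
    have hdi : IsOpenImmersion d.left := (repWith_yon_map_iff _ d).1 (by
      rw [hd]; exact (MorphismProperty.cancel_right_of_respectsIso _ _ _).2 (hjO z))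
    let W := d.left.opensRange
    let i : Over.mk (W.ι ≫ Y.hom) ⟶ Over.mk ((O z).ι ≫ Z.hom) :=
      Over.homMk d.left.isoOpensRange.inv (by
        change d.left.isoOpensRange.inv ≫ (O z).ι ≫ Z.hom = W.ι ≫ Y.hom
        rw [← Scheme.Hom.isoOpensRange_inv_comp d.left, Category.assoc, Over.w d]
        rfl)
    have hi : i ≫ d = Over.homMk W.ι rfl := Over.OverMorphism.ext (Scheme.Hom.isoOpensRange_inv_comp d.left)
    refine ⟨W, i ≫ jO ≫ zT, ⟨⟨z, hzO z⟩, ?_⟩, ?_⟩
    · have : Points.ofPt ((yon S).map d ≫ e.hom) (⟨z, hzO z⟩ : (O z).toScheme) = Points.ofPt e.hom y := by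
        rw [hd, Category.assoc, Category.assoc, e.inv_hom_id, Category.comp_id, AlgSpB.ofPt_map_comp]
        exact hz
      rw [AlgSpB.ofPt_map_comp] at this
      exact AlgSpB.injective_ofPt_of_mono e.hom this
    · rw [← hi, Functor.map_comp, Functor.map_comp, Functor.map_comp, Category.assoc, Category.assoc,
        Category.assoc, ← sZ.w, hd]
      simp

end Groth.Agent.AlgSpD.IntSurj
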