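import Groth.Agent.Wt.Split
import Groth.Agent.EtaleSite.Points
import Groth.Agent.AlgSpB.Charts
import Groth.Agent.FlatMor.GenericPts

/-!
# Etale schemes over products of algebraically closed fields, and separating neighbourhoods
-/

universe u

open CategoryTheory CategoryTheory.Limits AlgebraicGeometry

set_option autoImplicit false
set_option backward.isDefEq.respectTransparency false
set_option backward.isDefEq.respectTransparency.types false

namespace Groth.Agent.AlgSpD.IntSurj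

section Prod

variable {ι : Type u} (K : ι → Type u) [∀ i, Field (K i)]

/-- Primes of a product of fields are maximal. -/
theorem isMaximal_of_isPrime (p : Ideal (∀ i, K i)) [hp : p.IsPrime] : p.IsMaximal := by
  classical
  refine Ideal.isMaximal_iff.2 ⟨(Ideal.ne_top_iff_one p).1 hp.ne_top, fun J x hpJ hx hxJ => ?_⟩
  let e : ∀ i, K i := fun i => if x i = 0 then 0 else 1
  have h1 : x * (1 - e) = 0 := funext fun i => by by_cases h : x i = 0 <;> simp [e, h]
  have h2 : e = x * fun i => (x i)⁻¹ := funext fun i => by by_cases h : x i = 0 <;> simp [e, h]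
  have h3 : (1 - e) ∈ p := (hp.mem_or_mem (h1.symm ▸ p.zero_mem)).resolve_left hx
  rw [← sub_add_cancel (1 : ∀ i, K i) e]
  exact J.add_mem (hpJ h3) (h2 ▸ J.mul_mem_right _ hxJ)

variable [∀ i, IsAlgClosed (K i)]

/-- Residue fields of a product of algebraically closed fields are algebraically closed. -/
theorem isAlgClosed_residueField (m : Spec (CommRingCat.of (∀ i, K i))) :
    IsAlgClosed ((Spec (CommRingCat.of (∀ i, K i))).residueField m) := by
  have := isMaximal_of_isPrime K m.asIdeal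
  let σ := (Scheme.Spec.residueFieldIso (CommRingCat.of (∀ i, K i)) m).inv.hom
  let π := σ.comp (algebraMap (∀ i, K i) m.asIdeal.ResidueField)
  have hπ : Function.Surjective π :=
    ((ConcreteCategory.bijective_of_isIso
      (Scheme.Spec.residueFieldIso (CommRingCat.of (∀ i, K i)) m).inv).2).comp
      m.asIdeal.algebraMap_residueField_surjective
  refine IsAlgClosed.of_exists_root _ fun p hp hirr => ?_
  obtain ⟨q, hq, hdeg, hqm⟩ := Polynomial.lifts_and_degree_eq_and_monic
    (Polynomial.map_surjective π hπ p) hp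
  have hroot : ∀ i, ∃ x, (q.map (Pi.evalRingHom K i)).eval x = 0 := fun i =>
    IsAlgClosed.exists_root _ (by
      rw [hqm.degree_map, hdeg]
      exact hirr.degree_pos.ne')
  choose x hx using hroot
  refine ⟨π x, ?_⟩
  have h0 : q.eval x = 0 := funext fun i => by
    have := hx i
    rw [Polynomial.eval_map] at this
    rw [Pi.zero_apply, ← this]
    exact Polynomial.hom_eval₂ q (RingHom.id _) (Pi.evalRingHom K i) x
  rw [← hq, Polynomial.eval_map, Polynomial.eval₂_at_apply, h0, map_zero]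

omit [∀ i, IsAlgClosed (K i)] in
/-- Generalizations in the spectrum of a product of fields are trivial. -/
theorem eq_of_specializes_spec {m m' : Spec (CommRingCat.of (∀ i, K i))} (h : m' ⤳ m) : m' = m := by
  have := isMaximal_of_isPrime K m'.asIdeal
  exact PrimeSpectrum.ext (this.eq_of_le m.isPrime.ne_top ((PrimeSpectrum.le_iff_specializes _ _).2 h))

variable {V : Scheme.{u}} (p : V ⟶ Spec (CommRingCat.of (∀ i, K i))) [Etale p]

include p in
/-- Generalizations in an etale scheme over a product of fields are trivial. -/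
theorem eq_of_specializes {v v' : V} (h : v' ⤳ v) : v' = v := by
  have := Groth.Agent.AlgSpB.locallyQuasiFinite_of_etale p
  have hm : p v' = p v := eq_of_specializes_spec K (h.map p.continuous)
  have hd := (p.isDiscrete_preimage_singleton (p v)).to_subtype
  have h' : (⟨v', hm⟩ : (p ⁻¹' {p v} : Set V)) ⤳ ⟨v, rfl⟩ := (subtype_specializes_iff _ _).2 h
  exact congrArg Subtype.val h'.eq

/-- A geometric point of an etale scheme over a product of algebraically closed fields is determined by its image. -/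
theorem fieldPt_ext (L : Type u) [Field L] (a b : Spec (CommRingCat.of L) ⟶ V)
    (h : a (IsLocalRing.closedPoint L) = b (IsLocalRing.closedPoint L)) (hp : a ≫ p = b ≫ p) : a = b := by
  have := Groth.Agent.AlgSpB.locallyQuasiFinite_of_etale p
  obtain ⟨⟨v, α⟩, rfl⟩ := (Scheme.SpecToEquivOfField L V).symm.surjective a
  obtain ⟨⟨v', β⟩, rfl⟩ := (Scheme.SpecToEquivOfField L V).symm.surjective b
  simp only [Scheme.SpecToEquivOfField_symm_apply, Scheme.Hom.comp_apply,
    Scheme.fromSpecResidueField_apply] at h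
  subst h
  have hfin := Wt.Split.residueFieldMap_finite_of_quasiFiniteAt p v (p.quasiFiniteAt v)
  have := isAlgClosed_residueField K (p v)
  have hs : Function.Surjective (p.residueFieldMap v).hom := by
    algebraize [(p.residueFieldMap v).hom]
    exact (IsAlgClosed.algebraMap_bijective_of_isIntegral
      (k := (Spec (CommRingCat.of (∀ i, K i))).residueField (p v)) (K := V.residueField v)).2
  have : p.residueFieldMap v ≫ α = p.residueFieldMap v ≫ β := by
    simp only [Scheme.SpecToEquivOfField_symm_apply, Category.assoc,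
      ← Scheme.Hom.SpecMap_residueFieldMap_fromSpecResidueField, ← Spec.map_comp_assoc, cancel_mono,
      Spec.map_inj] at hp
    exact hp
  have : α = β := CommRingCat.hom_ext (RingHom.ext fun x => by
    obtain ⟨y, rfl⟩ := hs x
    exact congr(($this).hom y))
  rw [this]

/-- Distinct points are separated by clopen sets. -/
theorem exists_clopen [IsSeparated p] [QuasiCompact p] {v v' : V} (h : v ≠ v') :
    ∃ D : V.Opens, IsClosed (D : Set V) ∧ v ∈ D ∧ v' ∉ D := by
  have : CompactSpace V := QuasiCompact.compactSpace_of_compactSpace p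
  have : V.IsSeparated := ⟨by
    rw [← terminal.comp_from p]
    infer_instance⟩
  have hcl : ¬ v' ⤳ v := fun hs => h (eq_of_specializes K p hs).symm
  obtain ⟨D, hD, hvD, hsub⟩ := exists_isAffineOpen_mem_and_subset (x := v)
    (U := ⟨(closure {v'})ᶜ, isClosed_closure.isOpen_compl⟩) (fun hm => hcl (specializes_iff_mem_closure.2 hm))
  refine ⟨D, ?_, hvD, fun hm => hsub hm (subset_closure rfl)⟩
  have : QuasiCompact D.ι := by
    refine ⟨fun U hU hUc => ?_⟩
    rw [D.ι.isOpenEmbedding.isEmbedding.isCompact_iff, Set.image_preimage_eq_inter_range,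
      Scheme.Opens.range_ι]
    exact (QuasiSeparatedSpace.inter_isCompact U D hU hUc D.isOpen hD.isCompact)
  have hm : IsClosedMap D.ι := (isClosedMap_iff_specializingMap D.ι).2 fun a w hw =>
    ⟨a, (eq_of_specializes K p hw).symm ▸ ⟨specializes_rfl, rfl⟩⟩
  exact D.range_ι ▸ hm.isClosed_range

end Prod

section Nhd

/-- Algebraic form of the compactness lemma. -/
theorem exists_nhd_disjoint_ring {A B : Type u} [CommRing A] [CommRing B] (φ ψ : B →+* A) (I : Ideal A)
    (q : Ideal B) [q.IsPrime]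
    (H : ∀ P : Ideal A, P.IsPrime → I ≤ P → ¬ (P.comap φ ≤ q ∧ P.comap ψ ≤ q)) :
    ∃ g, g ∉ q ∧ ∀ P : Ideal A, P.IsPrime → I ≤ P → φ g ∈ P ∨ ψ g ∈ P := by
  let Sm := q.primeCompl.map φ ⊔ q.primeCompl.map ψ
  have hd : ¬ Disjoint (I : Set A) (Sm : Set A) := fun hd => by
    obtain ⟨P, hP, hIP, hPd⟩ := Ideal.exists_le_prime_disjoint I Sm hd
    refine H P hP hIP ⟨fun x hx => by_contra fun hxq => ?_, fun x hx => by_contra fun hxq => ?_⟩
    · exact Set.disjoint_left.1 hPd hx (Submonoid.mem_sup_left ⟨x, hxq, rfl⟩)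
    · exact Set.disjoint_left.1 hPd hx (Submonoid.mem_sup_right ⟨x, hxq, rfl⟩)
  obtain ⟨x, hxI, hx⟩ := Set.not_disjoint_iff.1 hd
  obtain ⟨_, ⟨a, ha, rfl⟩, _, ⟨b, hb, rfl⟩, rfl⟩ := Submonoid.mem_sup.1 hx
  refine ⟨a * b, q.primeCompl.mul_mem ha hb, fun P hP hIP => ?_⟩
  rcases hP.mem_or_mem (hIP hxI) with h | h
  · exact Or.inl (by rw [map_mul]; exact P.mul_mem_right _ h)
  · exact Or.inr (by rw [map_mul]; exact P.mul_mem_left _ h)

/-- A point of an affine scheme has a neighbourhood avoiding a closed set of pairs which avoids its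
generalizations. -/
theorem exists_nhd_disjoint {V R : Scheme.{u}} [IsAffine V] [CompactSpace R] (s t : R ⟶ V) (Z : Set R)
    (hZ : IsClosed Z) (v : V) (H : ∀ z ∈ Z, ¬ (s z ⤳ v ∧ t z ⤳ v)) :
    ∃ O : V.Opens, v ∈ O ∧ ∀ z ∈ Z, ¬ (s z ∈ O ∧ t z ∈ O) := by
  wlog hV : ∃ B, V = Spec B generalizing V
  · obtain ⟨O, h1, h2⟩ := this (V := Spec Γ(V, ⊤)) (s ≫ V.isoSpec.hom) (t ≫ V.isoSpec.hom) (V.isoSpec.hom v)
      (fun z hz ⟨a, b⟩ => H z hz
        ⟨V.isoSpec.hom.isOpenEmbedding.isInducing.specializes_iff.1 a,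
          V.isoSpec.hom.isOpenEmbedding.isInducing.specializes_iff.1 b⟩) ⟨_, rfl⟩
    exact ⟨V.isoSpec.hom ⁻¹ᵁ O, h1, h2⟩
  obtain ⟨B, rfl⟩ := hV
  obtain ⟨A, j, hj⟩ := compactSpace_iff_exists.1 ‹CompactSpace R›
  obtain ⟨φ, hφ⟩ := Spec.map_surjective (j ≫ s)
  obtain ⟨ψ, hψ⟩ := Spec.map_surjective (j ≫ t)
  obtain ⟨I, hI⟩ := (PrimeSpectrum.isClosed_iff_zeroLocus_ideal _).1 (hZ.preimage j.continuous)
  obtain ⟨g, hg, hgz⟩ := exists_nhd_disjoint_ring φ.hom ψ.hom I v.asIdeal fun P hP hIP h => by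
    let y : Spec A := ⟨P, hP⟩
    have hy : j y ∈ Z := (Set.ext_iff.1 hI y).2 hIP
    refine H _ hy ⟨?_, ?_⟩
    · rw [← Scheme.Hom.comp_apply, ← hφ]
      exact (PrimeSpectrum.le_iff_specializes _ _).1 h.1
    · rw [← Scheme.Hom.comp_apply, ← hψ]
      exact (PrimeSpectrum.le_iff_specializes _ _).1 h.2
  refine ⟨PrimeSpectrum.basicOpen g, hg, fun z hz ⟨h1, h2⟩ => ?_⟩
  obtain ⟨y, rfl⟩ := hj z
  rw [← Scheme.Hom.comp_apply, ← hφ] at h1
  rw [← Scheme.Hom.comp_apply, ← hψ] at h2
  exact (hgz y.asIdeal y.isPrime ((Set.ext_iff.1 hI y).1 hz)).elim h1 h2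

/-- A point has a neighbourhood over which the relation is trivial. -/
theorem exists_nhd_range {Z R V : Scheme.{u}} [IsAffine Z] [CompactSpace R] (s t : R ⟶ Z) [Etale s] [Etale t]
    (δ : Z ⟶ R) (hδ : δ ≫ s = 𝟙 Z) (hδc : IsClosed (Set.range δ)) (k : V ⟶ Z)
    (h1 : ∀ v v' : V, v ≠ v' → ∃ D : Set Z, IsClopen D ∧ k v ∈ D ∧ k v' ∉ D)
    (h2 : ∀ z : Z, (∀ z', z' ⤳ z → z' = z) → z ∈ Set.range k)
    (h3 : ∀ (r : R) (v : V), s r = k v → t r = k v → r ∈ Set.range δ) (c : Z) :
    ∃ O : Z.Opens, c ∈ O ∧ ∀ r : R, s r ∈ O → t r ∈ O → r ∈ Set.range δ := by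
  have := Groth.Agent.EtaleSite.isOpenImmersion_of_section s δ hδ
  obtain ⟨O, hc, hO⟩ := exists_nhd_disjoint s t (Set.range δ)ᶜ δ.isOpenEmbedding.isOpen_range.isClosed_compl c
    fun r hr ⟨hs, ht⟩ => by
    obtain ⟨r₀, hr₀, hsp⟩ := FlatMor.GenericPts.exists_generic_specializes r
    rw [FlatMor.GenericPts.closure_mem_irreducibleComponents_iff] at hr₀
    have key : ∀ (u : R ⟶ Z), Etale u → u r ⤳ c → ∃ v, k v = u r₀ ∧ k v ⤳ c := fun u hu hur => by
      obtain ⟨v, hv⟩ := h2 (u r₀) fun z' hz' => by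
        obtain ⟨r', hr', rfl⟩ := Flat.generalizingMap u hz'
        rw [(hr'.antisymm (hr₀ r' hr')).eq]
      exact ⟨v, hv, hv ▸ (hsp.map u.continuous).trans hur⟩
    obtain ⟨v, hv, hvc⟩ := key s inferInstance hs
    obtain ⟨v', hv', hvc'⟩ := key t inferInstance ht
    have hvv : v = v' := by
      by_contra hne
      obtain ⟨D, hD, hD1, hD2⟩ := h1 v v' hne
      have : c ∈ D := hvc.mem_closed hD.1 hD1
      exact hD2 (hvc'.mem_open hD.2 this)
    subst hvv
    exact hr (hsp.mem_closed hδc (h3 r₀ v hv.symm hv'.symm))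
  exact ⟨O, hc, fun r h1 h2 => by_contra fun h => hO r h ⟨h1, h2⟩⟩

end Nhd

end Groth.Agent.AlgSpD.IntSurj
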